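import Groth.Agent.SpDegen.General
import Groth.Agent.RpushLib.ToAb
import Groth.Agent.S0028
import Groth.Agent.S0030

/-!
# Higher direct images along composites with an affine morphism
-/

set_option autoImplicit false
set_option linter.style.haveILetI false

universe u

open CategoryTheory CategoryTheory.Limits AlgebraicGeometry TopologicalSpace Opposite

noncomputable section

namespace Groth.Agent.AffComp

variable {X Y Z : Scheme.{u}} (f : X ⟶ Y) (g : Y ⟶ Z)

theorem isAcyclicFor_pushAb_injective (Q : Sheaf (Opens.grothendieckTopology X) AddCommGrpCat.{u})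
    (hQ : Injective Q) : SpSeqLib.IsAcyclicFor (Coh.pushAb g) ((Coh.pushAb f).obj Q) := fun q =>
  CohBase.isZero_rightDerived (B := fun _ => True) g.base
    (fun W y hy => ⟨W, trivial, hy, le_rfl⟩)
    (fun V _ n => haveI := hQ; CohBase.push_injective_acyclic f.base Q (CohBase.pre g.base V) n) q

/-- `pushAb` of a composite. -/
def pushCompIso : Coh.pushAb (f ≫ g) ≅ Coh.pushAb f ⋙ Coh.pushAb g := Iso.refl _

theorem nonempty_comp_of_vanishing (F : Sheaf (Opens.grothendieckTopology X) AddCommGrpCat.{u})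
    (h : ∀ q : ℕ, IsZero ((Coh.RpushAb f (q + 1)).obj F)) (p : ℕ) :
    Nonempty ((Coh.RpushAb g p).obj ((Coh.pushAb f).obj F) ≅ (Coh.RpushAb (f ≫ g) p).obj F) := by
  obtain ⟨e⟩ := SpDegen.nonempty_rightDerived_comp_iso_of_vanishing (Coh.pushAb f) (Coh.pushAb g)
    (isAcyclicFor_pushAb_injective f g) F h p
  exact ⟨e.symm⟩

theorem nonempty_comp_of_acyclic (F : Sheaf (Opens.grothendieckTopology X) AddCommGrpCat.{u})
    (h : ∀ q : ℕ, SpSeqLib.IsAcyclicFor (Coh.pushAb g) ((Coh.RpushAb f q).obj F)) (p : ℕ) :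
    Nonempty ((Coh.RpushAb (f ≫ g) p).obj F ≅ (Coh.pushAb g).obj ((Coh.RpushAb f p).obj F)) := by
  obtain ⟨e⟩ := SpDegen.nonempty_rightDerived_comp_iso_of_acyclic (Coh.pushAb f) (Coh.pushAb g)
    (isAcyclicFor_pushAb_injective f g) F h p
  exact ⟨e⟩

end Groth.Agent.AffComp
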